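import Cfsg.Agent.H450.S8.Core
import Cfsg.Agent.H786.S8.SocTwo
import Cfsg.Agent.H58.S8.MultOut

/-!
# SOC2 of S4908 for the small sporadic groups (helper450, with the criterion of helper786)
-/

set_option autoImplicit false

namespace Cfsg.Agent.H450.S8

open Cfsg

universe u v

theorem sq_mem {N : ℕ} {fac : List (ℕ × ℕ)} (hpr : ∀ x ∈ fac, x.1.Prime) (hf : facTest N fac = true) {p : ℕ}
    (hp : p.Prime) (h : p ^ 2 ∣ N) : ∃ x ∈ fac, x.1 = p ∧ 2 ≤ x.2 := by
  rw [facTest, Bool.and_eq_true, List.all_eq_true, decide_eq_true_eq] at hf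
  have h1 : p ∣ N := (dvd_pow_self p (by norm_num)).trans h
  obtain ⟨x, hx, hxp⟩ := prime_mem hpr hp (hf.2 ▸ h1)
  refine ⟨x, hx, hxp, ?_⟩
  by_contra hcon
  have h3 : ¬ x.1 ^ (x.2 + 1) ∣ N := of_decide_eq_true (hf.1 x hx)
  rw [hxp] at h3
  exact h3 ((pow_dvd_pow p (by omega)).trans h)

/-- the criterion of helper786 with a decidable hypothesis -/
theorem small {X : Type v} [Group X] [Finite X] {c : ℕ} {D : Set ℕ} (hD : H704.S8.Deg c X D)
    (hout : (MulAut.conj : X →* MulAut X).range.index ≤ 2) {N : ℕ} (hN : Nat.card X = N) {fac : List (ℕ × ℕ)}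
    (hpr : ∀ x ∈ fac, x.1.Prime) (hf : facTest (2 * N) fac = true)
    (h2 : (fac.all fun x => decide (x.2 < 2 ∨ x.1 = 2 ∨ x.1 = 3)) = true) : H704.S8.Soc2.{u} D := by
  refine H786.S8.soc2_of_card hD hout hN (a := 2) (b := 3) fun p hp h => ?_
  obtain ⟨x, hx, rfl, h4⟩ := sq_mem hpr hf hp h
  have h5 : x.2 < 2 ∨ x.1 = 2 ∨ x.1 = 3 := of_decide_eq_true (List.all_eq_true.1 h2 x hx)
  rcases h5 with h5 | h5 | h5
  · omega
  · exact Or.inl h5
  · exact Or.inr h5

variable {X : Type v} [Group X] [Finite X] {D : Set ℕ}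

theorem soc2_m11 (h : IsM11 X) (hD : H704.S8.Deg 1 X D) : H704.S8.Soc2.{u} D :=
  small hD ((H58.S8.mo_m11.{0} h).out.le.trans (by norm_num)) h.2 (fac := [(2, 5), (3, 2), (5, 1), (11, 1)])
    (by simp; norm_num) (by decide +kernel) (by decide +kernel)

theorem soc2_m12 (h : IsM12 X) (hD : H704.S8.Deg 2 X D) : H704.S8.Soc2.{u} D :=
  small hD (H58.S8.mo_m12.{0} h).out.le h.2 (fac := [(2, 7), (3, 3), (5, 1), (11, 1)])
    (by simp; norm_num) (by decide +kernel) (by decide +kernel)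

theorem soc2_m22 (h : IsM22 X) (hD : H704.S8.Deg 2 X D) : H704.S8.Soc2.{u} D :=
  small hD (H58.S8.mo_m22.{0} h).out.le h.2 (fac := [(2, 8), (3, 2), (5, 1), (7, 1), (11, 1)])
    (by simp; norm_num) (by decide +kernel) (by decide +kernel)

theorem soc2_m23 (h : IsM23 X) (hD : H704.S8.Deg 1 X D) : H704.S8.Soc2.{u} D :=
  small hD ((H58.S8.mo_m23.{0} h).out.le.trans (by norm_num)) h.2
    (fac := [(2, 8), (3, 2), (5, 1), (7, 1), (11, 1), (23, 1)])
    (by simp; norm_num) (by decide +kernel) (by decide +kernel)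

theorem soc2_m24 (h : IsM24 X) (hD : H704.S8.Deg 1 X D) : H704.S8.Soc2.{u} D :=
  small hD ((H58.S8.mo_m24.{0} h).out.le.trans (by norm_num)) h.2
    (fac := [(2, 11), (3, 3), (5, 1), (7, 1), (11, 1), (23, 1)])
    (by simp; norm_num) (by decide +kernel) (by decide +kernel)

theorem soc2_j1 (h : IsJ1 X) (hD : H704.S8.Deg 1 X D) : H704.S8.Soc2.{u} D :=
  small hD ((H58.S8.mo_j1.{0} h).out.le.trans (by norm_num)) h.2
    (fac := [(2, 4), (3, 1), (5, 1), (7, 1), (11, 1), (19, 1)])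
    (by simp; norm_num) (by decide +kernel) (by decide +kernel)

theorem soc2_j3 (h : IsJ3 X) (hD : H704.S8.Deg 2 X D) : H704.S8.Soc2.{u} D :=
  small hD (H58.S8.mo_j3.{0} h).out.le h.2 (fac := [(2, 8), (3, 5), (5, 1), (17, 1), (19, 1)])
    (by simp; norm_num) (by decide +kernel) (by decide +kernel)

end Cfsg.Agent.H450.S8
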