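import Cfsg.Agent.H450.S8.Engine
import Cfsg.Agent.H504.AN.CTwo

/-!
# SOC2 of S4908: the engine (helper450)

* `soc2_of_num`; `soc2_one` (`c = 1`); `soc2_two` (`c = 2`).
-/

set_option autoImplicit false

namespace Cfsg.Agent.H450.S8

open Cfsg

universe u v

theorem known : H671.FactRows.KnownAll.{u} := by
  intro X _ _ _
  exact S0000.result (G := X)

theorem im : IM.{u} := by
  intro S _ _ _ hna p hp hd
  exact H504.AN.exists_dvd_degree hna hp hd

/-- **SOC2** from a numerical description of `D` -/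
theorem soc2_of_num {D : Set ℕ} {N : ℕ} {P : ℕ → Bool} {fac : List (ℕ × ℕ)} (hD : Num D N P)
    (hpr : ∀ x ∈ fac, x.1.Prime) (ht : soc2Test N P fac = true) : H704.S8.Soc2.{u} D :=
  soc2_core known im hD hpr ht

/-- `c = 1` -/
theorem soc2_one {X : Type v} [Group X] {N : ℕ} {P : ℕ → Bool} (h : Num (charDegrees X) N P) {fac : List (ℕ × ℕ)}
    (hpr : ∀ x ∈ fac, x.1.Prime) (ht : soc2Test N (P1 N P) fac = true) {D : Set ℕ} (hD : H704.S8.Deg 1 X D) :
    H704.S8.Soc2.{u} D :=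
  soc2_core_one known im h hpr ht hD

/-- `c = 2` -/
theorem soc2_two {X : Type v} [Group X] [Finite X] {N : ℕ} {P : ℕ → Bool} (h : Num (charDegrees X) N P)
    (hi : (MulAut.conj : X →* MulAut X).range.index ≤ 2) {fac : List (ℕ × ℕ)} (hpr : ∀ x ∈ fac, x.1.Prime)
    (ht : soc2Test (2 * N) (P2 N P) fac = true) {D : Set ℕ} (hD : H704.S8.Deg 2 X D) : H704.S8.Soc2.{u} D :=
  soc2_core_two known im h hi hpr ht hD

end Cfsg.Agent.H450.S8
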