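import Cfsg.Agent.H504.AN.MinDeg
import Cfsg.Agent.H704.S8.Defs

/-!
# Several simple factors against a numerical description of a degree set (helper450, for S4908)

* `Hyp D k S` : the conditions on `D` given by a minimal normal subgroup `S ^ k`;
* `Num D N P` : the members of `D` divide `N` and pass the test `P`.
-/

set_option autoImplicit false

namespace Cfsg.Agent.H450.S8

open Cfsg Cfsg.Agent.H691.AN Cfsg.Agent.H704 Cfsg.Agent.H504.AN

universe u v

/-- the conditions given by a minimal normal subgroup `S ^ k` of a group with degrees in `D` -/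
structure Hyp (D : Set ℕ) (k : ℕ) (S : Type u) [Group S] : Prop where
  pow : ∀ {d : ℕ}, d ∈ charDegrees S → ∃ d' ∈ D, d ^ k ∣ d'
  mul : ∀ {d : ℕ}, d ∈ charDegrees S → d ≠ 1 → ∃ c : ℕ, c ∣ Nat.card (Out S) ∧ k * (c * d) ∈ D
  ext : ∀ α : IrrCharacter S, charDegree (α : S → ℂ) ≠ 1 →
    (∃ ψ : IrrCharacter (MulAut S), ∀ s : S, (ψ : MulAut S → ℂ) (MulAut.conj s) = (α : S → ℂ) s) →
    charDegree (α : S → ℂ) ^ k ∈ D ∧ k * charDegree (α : S → ℂ) ∈ D
  pr : ∀ p : ℕ, p.Prime → p ∣ Nat.card S → ∃ d' ∈ D, p ^ k ∣ d'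

/-- the members of `D` divide `N` and pass the test `P` -/
structure Num (D : Set ℕ) (N : ℕ) (P : ℕ → Bool) : Prop where
  pos : 0 < N
  dvd : ∀ {d : ℕ}, d ∈ D → d ∣ N
  ok : ∀ {d : ℕ}, d ∈ D → P d = true

/-- the usual test: `m` is a lower bound of the nonlinear degrees, `l` lists primes `p` with self-centralizing subgroups
of order `p` and automizer of order `e` -/
def okDeg (m : ℕ) (l : List (ℕ × ℕ)) (d : ℕ) : Bool :=
  (d == 1 || decide (m ≤ d)) && l.all fun x => [0, 1, x.1 - 1, x.2, x.1 - x.2].contains (d % x.1)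

/-- the test with divisibility -/
def P1 (N : ℕ) (P : ℕ → Bool) (d : ℕ) : Bool := N % d == 0 && P d

/-- the test for degrees of a group with a normal subgroup of index two -/
def P2 (N : ℕ) (P : ℕ → Bool) (d : ℕ) : Bool := P1 N P d || (d % 2 == 0 && P1 N P (d / 2))

theorem Num.one {D : Set ℕ} {N : ℕ} {P : ℕ → Bool} (h : Num D N P) : Num D N (P1 N P) where
  pos := h.pos
  dvd := h.dvd
  ok hd := by
    rw [P1, h.ok hd, Bool.and_true, beq_iff_eq]
    exact Nat.mod_eq_zero_of_dvd (h.dvd hd)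

/-- the degree sets of an almost simple group with socle of index at most two -/
theorem Num.deg2 {X : Type v} [Group X] [Finite X] {N : ℕ} {P : ℕ → Bool} (h : Num (charDegrees X) N P)
    (hi : (MulAut.conj : X →* MulAut X).range.index ≤ 2) {D : Set ℕ} (hD : H704.S8.Deg 2 X D) :
    Num D (2 * N) (P2 N P) := by
  have key : ∀ d ∈ D, P2 N P d = true ∧ d ∣ 2 * N := by
    intro d hd
    have h1 := h.one
    rcases hD with rfl | ⟨-, rfl⟩
    · refine ⟨?_, (h.dvd hd).mul_left 2⟩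
      rw [P2, h1.ok hd, Bool.true_or]
    · have : Finite (MulAut X) := Finite.of_injective _ (DFunLike.coe_injective (F := MulAut X))
      have hN : (MulAut.conj : X →* MulAut X).range.Normal := by
        refine ⟨?_⟩
        rintro _ ⟨x, rfl⟩ g
        refine ⟨g x, ?_⟩
        ext y
        simp [MulAut.conj_apply]
      obtain ⟨c, hc, hcd, hdc⟩ := H424.DegTools.clifford_down (MulAut.conj : X →* MulAut X).range hd
      have hc' : c ∈ charDegrees X := H424.DegTools.charDegrees_of_surjective (MulAut.conj : X →* MulAut X).rangeRestrict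
        (MulAut.conj : X →* MulAut X).rangeRestrict_surjective hc
      have hpos := H424.DegTools.pos_of_mem hc
      obtain ⟨t, rfl⟩ := hcd
      rw [Nat.mul_div_cancel_left _ hpos] at hdc
      have hi0 : (MulAut.conj : X →* MulAut X).range.index ≠ 0 := Subgroup.index_ne_zero_of_finite
      have ht := Nat.le_of_dvd (by omega) hdc
      have ht0 : t ≠ 0 := by rintro rfl; exact hi0 (zero_dvd_iff.1 hdc)
      have ht2 : t = 1 ∨ t = 2 := by omega
      rcases ht2 with rfl | rfl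
      · rw [mul_one]
        exact ⟨by rw [P2, h1.ok hc', Bool.true_or], (h.dvd hc').mul_left 2⟩
      · refine ⟨?_, by rw [mul_comm]; exact Nat.mul_dvd_mul_left 2 (h.dvd hc')⟩
        rw [P2, Nat.mul_mod_left, Nat.mul_div_cancel _ (by norm_num), h1.ok hc']
        simp
  exact ⟨by have := h.pos; omega, fun hd => (key _ hd).2, fun hd => (key _ hd).1⟩

/-- `fac` lists the primes of `N` with exponents -/
def facTest (N : ℕ) (fac : List (ℕ × ℕ)) : Bool :=
  (fac.all fun x => decide (¬ x.1 ^ (x.2 + 1) ∣ N)) && decide (N = (fac.map fun x => x.1 ^ x.2).prod)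

/-- no `q ^ k`, `k q` both pass, `q = r ^ v ≥ 3` -/
def ppTest (P : ℕ → Bool) (fac : List (ℕ × ℕ)) : Bool :=
  fac.all fun x => (List.range (x.2 + 1)).all fun v => (List.range (x.2 / v + 1)).all fun k =>
    decide (v = 0) || decide (k < 2) || decide (x.1 ^ v < 3) || !(P ((x.1 ^ v) ^ k) && P (k * x.1 ^ v))

/-- both `k a`, `2 k a` fail -/
def bad (P : ℕ → Bool) (k a : ℕ) : Bool := !P (k * a) && !P (2 * (k * a))

/-- one simple group with primes `pr` and degrees `l` -/
def rowTest (N : ℕ) (P : ℕ → Bool) (pr l : List ℕ) : Bool :=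
  (pr.any fun p => decide (¬ p ^ 2 ∣ N)) ||
    (List.range (N.log2 + 1)).all fun k => decide (k < 2) || (pr.any fun p => decide (¬ p ^ k ∣ N)) ||
      l.any fun a => bad P k a

section

variable {D : Set ℕ} {N : ℕ} {P : ℕ → Bool} {k : ℕ} {S : Type u} [Group S] [Finite S]

omit [Finite S] in
theorem pow_dvd (hD : Num D N P) (H : Hyp D k S) {p : ℕ} (hp : p.Prime) (hd : p ∣ Nat.card S) : p ^ k ∣ N := by
  obtain ⟨d', h1, h2⟩ := H.pr p hp hd
  exact h2.trans (hD.dvd h1)

theorem le_log {N p k : ℕ} (hN : 0 < N) (hp : 2 ≤ p) (h : p ^ k ∣ N) : k ≤ N.log2 := by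
  have h1 : 2 ^ k ≤ N := (Nat.pow_le_pow_left hp k).trans (Nat.le_of_dvd hN h)
  exact (Nat.le_log2 hN.ne').2 h1

theorem one_or_two {c m : ℕ} (hm : m ≤ 2) (h0 : m ≠ 0) (h : c ∣ m) : c = 1 ∨ c = 2 := by
  have h1 := Nat.le_of_dvd (by omega) h
  have h2 : c ≠ 0 := by rintro rfl; exact h0 (zero_dvd_iff.1 h)
  omega

theorem Hyp.two (H : Hyp D k S) (hout : Nat.card (Out S) ≤ 2) {a : ℕ}
    (ha : a ∈ charDegrees S) (ha1 : a ≠ 1) : k * a ∈ D ∨ 2 * (k * a) ∈ D := by
  obtain ⟨c, hc, h⟩ := H.mul ha ha1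
  have : Finite (MulAut S) := Finite.of_injective _ (DFunLike.coe_injective (F := MulAut S))
  rcases one_or_two hout Nat.card_pos.ne' hc with rfl | rfl
  · left; rwa [one_mul] at h
  · right; rwa [show 2 * (k * a) = k * (2 * a) by ring]

/-- **One row.** -/
theorem row_kill (hD : Num D N P) (hk : 2 ≤ k) (H : Hyp D k S) (hout : Nat.card (Out S) ≤ 2) {pr l : List ℕ}
    (hpr : ∀ p ∈ pr, p.Prime ∧ p ∣ Nat.card S) (hne : pr ≠ []) (hl : ∀ a ∈ l, a ∈ charDegrees S ∧ a ≠ 1)
    (ht : rowTest N P pr l = true) : False := by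
  rw [rowTest, Bool.or_eq_true] at ht
  have hpk : ∀ p ∈ pr, p ^ k ∣ N := fun p hp => pow_dvd hD H (hpr p hp).1 (hpr p hp).2
  rcases ht with ht | ht
  · rw [List.any_eq_true] at ht
    obtain ⟨p, hp, h1⟩ := ht
    exact of_decide_eq_true h1 ((pow_dvd_pow p hk).trans (hpk p hp))
  · rw [List.all_eq_true] at ht
    obtain ⟨p, hp⟩ := List.exists_mem_of_ne_nil pr hne
    have h1 := ht k (List.mem_range.2 (Nat.lt_succ_of_le (le_log hD.pos (hpr p hp).1.two_le (hpk p hp))))
    rw [Bool.or_eq_true, Bool.or_eq_true] at h1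
    rcases h1 with (h1 | h1) | h1
    · exact absurd (of_decide_eq_true h1) (by omega)
    · rw [List.any_eq_true] at h1
      obtain ⟨p, hp, h2⟩ := h1
      exact of_decide_eq_true h2 (hpk p hp)
    · rw [List.any_eq_true] at h1
      obtain ⟨a, ha, h2⟩ := h1
      rw [bad, Bool.and_eq_true, Bool.not_eq_true', Bool.not_eq_true'] at h2
      rcases H.two hout (hl a ha).1 (hl a ha).2 with h3 | h3
      · rw [hD.ok h3] at h2; exact absurd h2.1 (by decide)
      · rw [hD.ok h3] at h2; exact absurd h2.2 (by decide)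

end

theorem prime_mem {fac : List (ℕ × ℕ)} (hpr : ∀ x ∈ fac, x.1.Prime) {r : ℕ} (hr : r.Prime)
    (h : r ∣ (fac.map fun x => x.1 ^ x.2).prod) : ∃ x ∈ fac, x.1 = r := by
  rw [Prime.dvd_prod_iff hr.prime] at h
  obtain ⟨a, ha, h1⟩ := h
  obtain ⟨x, hx, rfl⟩ := List.mem_map.1 ha
  exact ⟨x, hx, ((Nat.prime_dvd_prime_iff_eq hr (hpr x hx)).1 (hr.dvd_of_dvd_pow h1)).symm⟩

/-- **Lie type**: an extendible character of prime power degree -/
theorem pp_kill {D : Set ℕ} {N : ℕ} {P : ℕ → Bool} (hD : Num D N P) {fac : List (ℕ × ℕ)}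
    (hpr : ∀ x ∈ fac, x.1.Prime) (hf : facTest N fac = true) (ht : ppTest P fac = true) {k r v : ℕ} (hk : 2 ≤ k)
    (hr : r.Prime) (hv : 0 < v) (hq : 3 ≤ r ^ v) (h1 : (r ^ v) ^ k ∈ D) (h2 : k * r ^ v ∈ D) : False := by
  rw [facTest, Bool.and_eq_true, List.all_eq_true, decide_eq_true_eq] at hf
  have hd := hD.dvd h1
  rw [← pow_mul] at hd
  have hrN : r ∣ N := (dvd_pow_self r (Nat.mul_pos hv (by omega)).ne').trans hd
  obtain ⟨x, hx, hxr⟩ := prime_mem hpr hr (hf.2 ▸ hrN)
  have h3 : ¬ x.1 ^ (x.2 + 1) ∣ N := of_decide_eq_true (hf.1 x hx)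
  rw [hxr] at h3
  have h4 : v * k ≤ x.2 := by
    by_contra hcon
    exact h3 ((pow_dvd_pow r (by omega)).trans hd)
  rw [ppTest, List.all_eq_true] at ht
  have h5 := ht x hx
  rw [List.all_eq_true] at h5
  have hv2 : v ≤ x.2 := (Nat.le_mul_of_pos_right v (by omega)).trans h4
  have h6 := h5 v (List.mem_range.2 (by omega))
  rw [List.all_eq_true] at h6
  have hk2 : k ≤ x.2 / v := (Nat.le_div_iff_mul_le hv).2 (by rw [mul_comm]; exact h4)
  have h7 := h6 k (List.mem_range.2 (by omega))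
  rw [hxr, hD.ok h1, hD.ok h2] at h7
  simp only [Bool.or_eq_true, decide_eq_true_eq, Bool.and_self, Bool.not_true, Bool.false_eq_true, or_false] at h7
  omega

end Cfsg.Agent.H450.S8
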