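import Cfsg.Agent.H450.S8.Spor

/-!
# SOC2 of S4908 from a numerical description of the degrees (helper450)

* `soc2_core` : `Num D N P` and the finite test give `Soc2 D`; the classification and the Itô-Michler theorem are
  hypotheses.
-/

set_option autoImplicit false

namespace Cfsg.Agent.H450.S8

open Cfsg Cfsg.Agent.H691.AN Cfsg.Agent.H704 Cfsg.Agent.H504.AN

universe u v

/-- **Itô-Michler** for simple groups -/
def IM : Prop := ∀ {S : Type u} [Group S] [Finite S] [IsSimpleGroup S], ¬ IsMulCommutative S → ∀ p : ℕ, p.Prime →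
  p ∣ Nat.card S → ∃ d ∈ charDegrees S, p ∣ d

theorem soc2_core (hK : H671.FactRows.KnownAll.{u}) (hIM : IM.{u}) {D : Set ℕ} {N : ℕ} {P : ℕ → Bool}
    (hD : Num D N P) {fac : List (ℕ × ℕ)} (hpr : ∀ x ∈ fac, x.1.Prime) (ht : soc2Test N P fac = true) :
    H704.S8.Soc2.{u} D := by
  intro Y _ _ h W hW _ hmin hna
  have hna' : ¬ ∀ x ∈ W, ∀ y ∈ W, Commute x y := by
    intro hc
    exact hna ⟨⟨fun a b => Subtype.ext (hc a a.2 b b.2)⟩⟩
  obtain ⟨m, S, iS, F⟩ := exists_mfac W hmin hna'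
  have hfin := F.finite
  have hsimp := F.simple
  rcases Nat.lt_or_ge m 2 with hm | hm
  · have hm1 : m = 1 := by have := F.pos; omega
    subst hm1
    exact F.simple_of_one
  · exfalso
    refine kill hK hD hm (H := ⟨?_, ?_, ?_, ?_⟩) F.nonab hpr ht
    · intro d hd
      obtain ⟨d', h1, h2⟩ := F.pow hd
      exact ⟨d', h h1, h2⟩
    · intro d hd hd1
      obtain ⟨c, h1, h2⟩ := F.mul hd hd1
      exact ⟨c, h1, h h2⟩
    · intro α hα hψ
      obtain ⟨h1, h2⟩ := F.ext α hα hψ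
      exact ⟨h h1, h h2⟩
    · intro p hp hpd
      obtain ⟨d', h1, h2⟩ := F.prime_pow (fun q hq hqd => hIM F.nonab q hq hqd) hp hpd
      exact ⟨d', h h1, h2⟩

/-- `c = 1` -/
theorem soc2_core_one (hK : H671.FactRows.KnownAll.{u}) (hIM : IM.{u}) {X : Type v} [Group X] {N : ℕ} {P : ℕ → Bool}
    (h : Num (charDegrees X) N P) {fac : List (ℕ × ℕ)} (hpr : ∀ x ∈ fac, x.1.Prime)
    (ht : soc2Test N (P1 N P) fac = true) {D : Set ℕ} (hD : H704.S8.Deg 1 X D) : H704.S8.Soc2.{u} D := by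
  rcases hD with rfl | ⟨h1, -⟩
  · exact soc2_core hK hIM h.one hpr ht
  · exact absurd h1 (by norm_num)

/-- `c = 2` -/
theorem soc2_core_two (hK : H671.FactRows.KnownAll.{u}) (hIM : IM.{u}) {X : Type v} [Group X] [Finite X] {N : ℕ}
    {P : ℕ → Bool} (h : Num (charDegrees X) N P) (hi : (MulAut.conj : X →* MulAut X).range.index ≤ 2)
    {fac : List (ℕ × ℕ)} (hpr : ∀ x ∈ fac, x.1.Prime) (ht : soc2Test (2 * N) (P2 N P) fac = true) {D : Set ℕ}
    (hD : H704.S8.Deg 2 X D) : H704.S8.Soc2.{u} D :=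
  soc2_core hK hIM (h.deg2 hi hD) hpr ht

end Cfsg.Agent.H450.S8
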