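import Cfsg.Agent.H670.S8.FrobEng
import Cfsg.Agent.H715.Fpr.M22
import Cfsg.Agent.H242.S8.MTwentyTwoDeg

/-!
# The row FROB of S4908 for `M22` (helper450, part (D) of helper213's plan)

`frob_of` : the row from two bounds on the number of classes of the subgroups of index `22` and `77`.
-/

set_option autoImplicit false

namespace Cfsg.Agent.H450.S8.MTwentyTwo

open Cfsg Subgroup Cfsg.Agent.H940.Eng Cfsg.Agent.H940.Eng.D Cfsg.Agent.H704.S8 Cfsg.Agent.H670.S8
open Cfsg.Agent.H715.Fpr.MathData Cfsg.Agent.H715.Fpr.M22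

universe u v

abbrev G : Type := Spor.M22

/-- a self-centralizing prime -/
theorem cloc_self {X : Type u} [Group X] {r : ℕ} (hr : r.Prime)
    (h : ∀ R : Subgroup X, Nat.card R = r → Nat.card (centralizer (R : Set X)) = r) : CLoc X (r, [r]) := by
  refine ⟨hr, fun g hg => ⟨r, List.mem_singleton_self r, ?_⟩⟩
  have h1 := h (zpowers g) (by rw [Nat.card_zpowers]; exact hg)
  rw [zpowers_eq_closure, centralizer_closure] at h1
  exact h1.dvd

/-- the local data -/
def cls : List (List (ℕ × List ℕ)) := [[(11, [11]), (7, [7]), (5, [5])], [(11, [11])], [(7, [7])], [(5, [5])],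
  [(11, [11]), (5, [5])], [(7, [7]), (5, [5])]]

theorem hcls : ∀ cl ∈ cls, ∀ x ∈ cl, CLoc G x := by
  have h11 : CLoc G (11, [11]) := cloc_self (by norm_num) fun R hR => (cn22_11 hR).1
  have h7 : CLoc G (7, [7]) := cloc_self (by norm_num) fun R hR => (cn22_7 hR).1
  have h5 : CLoc G (5, [5]) := cloc_self (by norm_num) fun R hR => (cn22_5 hR).1
  intro cl hcl x hx
  simp only [cls, List.mem_cons, List.not_mem_nil, or_false] at hcl
  rcases hcl with rfl | rfl | rfl | rfl | rfl | rfl <;>
    simp only [List.mem_cons, List.not_mem_nil, or_false] at hx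
  · rcases hx with rfl | rfl | rfl
    · exact h11
    · exact h7
    · exact h5
  · rw [hx]; exact h11
  · rw [hx]; exact h7
  · rw [hx]; exact h5
  · rcases hx with rfl | rfl
    · exact h11
    · exact h5
  · rcases hx with rfl | rfl
    · exact h7
    · exact h5

/-- a superset of the degrees of `M22` and of its automorphism group -/
def adm : List ℕ := [1, 21, 42, 45, 55, 90, 99, 110, 154, 198, 210, 231, 280, 308, 385, 420, 462, 560, 770]

theorem chk : allD (ftest l_m22 n_m22 2 11 5 cls adm [22, 77] 60 loc o_m22) l_m22 1 = true := by decide +kernel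

theorem mem_adm {X : Type v} [Group X] (h : Spor.IsoM22 X) {D : Set ℕ} (hD : Deg 2 X D) : ∀ d ∈ D, d ∈ adm := by
  intro d hd
  have key : (∀ n ∈ H242.S8.MTwentyTwo.L22, n ∈ adm) ∧ ∀ n ∈ H242.S8.MTwentyTwo.L22, n ≠ 1 → 2 * n ∈ adm := by decide
  rcases (H242.S8.MTwentyTwo.deg h hD).2 d hd with h1 | ⟨n, hn, hn1, rfl⟩
  · exact key.1 d h1
  · exact key.2 n hn hn1

/-- **the row**, for the model -/
theorem frob_model (B : Base)
    (h22 : ∀ T : Subgroup G, T.index = 22 → Nat.card (ConjClasses T) ≤ 11)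
    (h77 : ∀ T : Subgroup G, T.index = 77 → Nat.card (ConjClasses T) ≤ 38) {D : Set ℕ} (hD : ∀ d ∈ D, d ∈ adm) :
    FrobRow 2 D G := by
  have hfin : Finite G := fin
  obtain ⟨R, hR⟩ := exists_card_eq (G := G) (r := 11) (by decide +kernel) (by rw [card22]; decide +kernel)
  have c11 := cn22_11 hR
  obtain ⟨Q, hQ, h1, h2, h3⟩ := frob_pair (by norm_num : Nat.Prime 11) Nat.prime_five (by norm_num) hR c11.1
    (by rw [c11.2]; norm_num)
  refine frobRow_of (ctx B) two_pos hcls (adm := adm) (fun _ => hD) (ex := [22, 77])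
    (by norm_num) hR hQ h1 h2 h3 ?_ chk
  intro T _ _ _ hT
  have hmul : Nat.card T * T.index = Nat.card G := card_mul_index T
  have hc : Nat.card G = 443520 := card22
  rw [hc] at hmul ⊢
  simp only [List.mem_cons, List.not_mem_nil, or_false] at hT
  rcases hT with hT | hT
  · rw [hT] at hmul
    refine (Nat.mul_le_mul_left 2 (Nat.mul_le_mul_left (Nat.card T) (h22 T hT))).trans ?_
    omega
  · rw [hT] at hmul
    refine (Nat.mul_le_mul_left 2 (Nat.mul_le_mul_left (Nat.card T) (h77 T hT))).trans ?_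
    omega

/-- **the row FROB for `M22`** -/
theorem frob_M22 {X : Type v} [Group X] (B : Base)
    (h22 : ∀ T : Subgroup Spor.M22, T.index = 22 → Nat.card (ConjClasses T) ≤ 11)
    (h77 : ∀ T : Subgroup Spor.M22, T.index = 77 → Nat.card (ConjClasses T) ≤ 38) (h : Spor.IsoM22 X) {D : Set ℕ}
    (hD : Deg 2 X D) : FrobRow 2 D X := by
  obtain ⟨e⟩ := h
  exact FrobRow.congr e.symm (frob_model B h22 h77 (mem_adm ⟨e⟩ hD))

end Cfsg.Agent.H450.S8.MTwentyTwo
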