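import Cfsg.Agent.H133.Ore.DegCo3
import Cfsg.Agent.H664.Eight.Base
import Cfsg.Agent.H450.S8.Core
import Cfsg.Agent.H498.SporOut
import Cfsg.Agent.S2072

/-!
# S4908, the Higman-Sims group: the numerical facts on the degrees (helper450)

`deg` : a degree of `HS` divides `|HS|`, is `1` or at least `21`, is `0, ±1` modulo `7` and `0, ±1, ±5` modulo `11`.
-/

set_option autoImplicit false

open Cfsg Subgroup

namespace Cfsg.Agent.H450.S8.HS

open Cfsg.Agent.H133.Ore.Co3.HS

theorem deg {d : ℕ} (hd : d ∈ charDegrees Spor.HS) :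
    d ∣ 44352000 ∧ (d = 1 ∨ 21 ≤ d) ∧
      (d % 11 = 0 ∨ d % 11 = 1 ∨ d % 11 = 5 ∨ d % 11 = 6 ∨ d % 11 = 10) ∧
      (d % 7 = 0 ∨ d % 7 = 1 ∨ d % 7 = 6) := by
  obtain ⟨χ, rfl⟩ := hd
  have := simple
  have := fin
  have hok := List.all_eq_true.1 ok
  refine ⟨card ▸ H511.Ore.charDegree_dvd χ, ?_, ?_, ?_⟩
  · by_cases h : (χ : Spor.HS → ℂ) = 1
    · left
      rw [h]
      simp [charDegree]
    · exact Or.inr (minDeg χ h)
  · have h := H511.Ore.res_of_has not_comm card (has c11 (by simp [cd])) (hok c11 (by simp [cd])) χ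
    simpa [c11, or_assoc] using h
  · have h := H511.Ore.res_of_has not_comm card (has c7 (by simp [cd])) (hok c7 (by simp [cd])) χ
    simpa [c7, or_assoc] using h

theorem degX {X : Type*} [Group X] (hX : Spor.IsoHS X) {d : ℕ} (hd : d ∈ charDegrees X) :
    d ∣ 44352000 ∧ (d = 1 ∨ 21 ≤ d) ∧
      (d % 11 = 0 ∨ d % 11 = 1 ∨ d % 11 = 5 ∨ d % 11 = 6 ∨ d % 11 = 10) ∧
      (d % 7 = 0 ∨ d % 7 = 1 ∨ d % 7 = 6) := by
  obtain ⟨e⟩ := hX
  exact deg (H664.Eight.charDegrees_subset e.symm hd)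

theorem num {X : Type*} [Group X] (hX : Spor.IsoHS X) :
    H450.S8.Num (charDegrees X) 44352000 (H450.S8.okDeg 21 [(11, 5), (7, 6)]) where
  pos := by norm_num
  dvd hd := (degX hX hd).1
  ok {d} hd := by
    obtain ⟨-, h1, h2, h3⟩ := degX hX hd
    rw [H450.S8.okDeg, Bool.and_eq_true]
    refine ⟨?_, ?_⟩
    · rw [Bool.or_eq_true, beq_iff_eq, decide_eq_true_eq]
      exact h1
    · rw [List.all_eq_true]
      intro x hx
      simp only [List.mem_cons, List.not_mem_nil, or_false] at hx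
      rcases hx with rfl | rfl
      · rcases h2 with h | h | h | h | h <;> rw [h] <;> decide
      · rcases h3 with h | h | h <;> rw [h] <;> decide

theorem index_le {X : Type*} [Group X] (hX : Spor.IsoHS X) : (MulAut.conj : X →* MulAut X).range.index ≤ 2 := by
  obtain ⟨e⟩ := hX
  rw [H498.SporOut.index_congr e]
  exact Cfsg.Agent.S2072.result.le

end Cfsg.Agent.H450.S8.HS
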