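import Cfsg.Agent.H450.S8.Soc2
import Cfsg.Agent.H450.S8.NumHS

/-!
# SOC2 of S4908 for the Higman-Sims group (helper450)
-/

set_option autoImplicit false

namespace Cfsg.Agent.H450.S8.HS

open Cfsg Cfsg.Agent.H450.S8

universe u v

theorem test : soc2Test (2 * 44352000) (P2 44352000 (okDeg 21 [(11, 5), (7, 6)]))
    [(2, 10), (3, 2), (5, 3), (7, 1), (11, 1)] = true := by
  decide +kernel

theorem soc2 {X : Type v} [Group X] [Finite X] (hX : Spor.IsoHS X) {D : Set ℕ} (hD : H704.S8.Deg 2 X D) :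
    H704.S8.Soc2.{u} D :=
  soc2_two (num hX) (index_le hX) (by simp; norm_num) test hD

end Cfsg.Agent.H450.S8.HS
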