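import Cfsg.Agent.H450.S8.Core
import Cfsg.Agent.H504.AN.Rows
import Cfsg.Agent.H678.DG.Tits
import Cfsg.Agent.H3.DS.Fi22Row
import Cfsg.Agent.H672.SporIM.RankRows
import Cfsg.Agent.H765.DS.HSMcL
import Cfsg.Agent.H603.FD.Spor
import Cfsg.Agent.NotCT.Orders
import Cfsg.Agent.H707.RowTits

/-!
# Primes and degrees of the simple groups which are not of Lie type (helper450, for S4908)

* `sporTable`, `Fact`, `spor_fact`, `tits_fact` : primes and two degrees of the sporadic groups;
* `soc2Test` : the finite test;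
* `kill` : no simple group passes.
-/

set_option autoImplicit false

namespace Cfsg.Agent.H450.S8

open Cfsg Cfsg.Agent.H691.AN Cfsg.Agent.H704 Cfsg.Agent.H504.AN

universe u v

/-- primes dividing the order, nonlinear degrees -/
def Fact (S : Type u) [Group S] (pr l : List ℕ) : Prop :=
  pr ≠ [] ∧ (∀ p ∈ pr, p.Prime ∧ p ∣ Nat.card S) ∧ ∀ a ∈ l, a ∈ charDegrees S ∧ a ≠ 1

/-- the primes and degrees used -/
def sporTable : List (List ℕ × List ℕ) :=
  [([5, 11], [10, 45]), ([5, 11], [16, 45]), ([5, 7, 11], [21, 45]), ([7, 11], [22, 77]), ([7, 11], [22, 252]),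
    ([7, 11, 13], [780, 1001]), ([7, 11, 13], [429, 3080]), ([13], [78, 650]), ([5, 7], [36, 63]),
    ([17], []), ([19], []), ([23], []), ([29], []), ([31], []), ([43], []), ([47], []), ([67], []), ([71], [])]

theorem mem_irr {K : Type*} [Group K] {m : ℕ} (h : ∃ ψ : K → ℂ, IsIrrCharacter K ψ ∧ ψ 1 = ((m : ℕ) : ℂ)) :
    m ∈ charDegrees K := H424.DegTools.mem_charDegrees.2 h

theorem mem_equiv {K T : Type*} [Group K] [Group T] (e : K ≃* T) {m : ℕ} (h : m ∈ charDegrees T) :
    m ∈ charDegrees K := H424.DegTools.charDegrees_of_surjective e.toMonoidHom e.surjective h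

theorem fact_one {S : Type u} [Group S] {n p : ℕ} (hc : Nat.card S = n) (hp : p.Prime) (h : p ∣ n)
    (hm : (([p], []) : List ℕ × List ℕ) ∈ sporTable) : ∃ x ∈ sporTable, Fact S x.1 x.2 := by
  refine ⟨_, hm, by simp, ?_, by simp⟩
  intro q hq
  have : q = p := by simpa using hq
  subst this
  exact ⟨hp, hc ▸ h⟩

theorem spor_fact {S : Type u} [Group S] [Finite S] (h : IsSporadicGroup S) : ∃ x ∈ sporTable, Fact S x.1 x.2 := by
  rcases h with h | h | h | h | h | h | h | h | h | h | h | h | h | h | h | h | h | h | h | h | h | h | h | h | h | h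
  · -- M11
    obtain ⟨h1, h2, -⟩ := H603.FD.Spor.m11 (UGT.End.MEleven.isM11 h)
    have hc := NotCT.Orders.m11 h
    refine ⟨([5, 11], [10, 45]), by decide, by simp, ?_, ?_⟩
    · simp only [List.forall_mem_cons, List.not_mem_nil, false_implies, implies_true, and_true, hc]
      norm_num
    · simp only [List.forall_mem_cons, List.not_mem_nil, false_implies, implies_true, and_true]
      exact ⟨⟨h1, by norm_num⟩, h2, by norm_num⟩
  · -- M12
    obtain ⟨h1, h2, -⟩ := H603.FD.Spor.m12 (H603.FD.Spor.isM12 h)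
    have hc := NotCT.Orders.m12 h
    refine ⟨([5, 11], [16, 45]), by decide, by simp, ?_, ?_⟩
    · simp only [List.forall_mem_cons, List.not_mem_nil, false_implies, implies_true, and_true, hc]
      norm_num
    · simp only [List.forall_mem_cons, List.not_mem_nil, false_implies, implies_true, and_true]
      exact ⟨⟨h1, by norm_num⟩, h2, by norm_num⟩
  · -- M22
    obtain ⟨h1, h2, -⟩ := H603.FD.Spor.m22 (H417.RecogMathieu.isM22 h)
    have hc := NotCT.Orders.m22 h
    refine ⟨([5, 7, 11], [21, 45]), by decide, by simp, ?_, ?_⟩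
    · simp only [List.forall_mem_cons, List.not_mem_nil, false_implies, implies_true, and_true, hc]
      norm_num
    · simp only [List.forall_mem_cons, List.not_mem_nil, false_implies, implies_true, and_true]
      exact ⟨⟨h1, by norm_num⟩, h2, by norm_num⟩
  · exact fact_one (NotCT.Orders.m23 h) (p := 23) (by norm_num) (by norm_num) (by decide)
  · exact fact_one (NotCT.Orders.m24 h) (p := 23) (by norm_num) (by norm_num) (by decide)
  · exact fact_one (NotCT.Orders.j1 h) (p := 19) (by norm_num) (by norm_num) (by decide)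
  · -- J2
    obtain ⟨h2, h1⟩ := H672.SporIM.j2 h
    have hc := NotCT.Orders.j2 h
    refine ⟨([5, 7], [36, 63]), by decide, by simp, ?_, ?_⟩
    · simp only [List.forall_mem_cons, List.not_mem_nil, false_implies, implies_true, and_true, hc]
      norm_num
    · simp only [List.forall_mem_cons, List.not_mem_nil, false_implies, implies_true, and_true]
      exact ⟨⟨h1, by norm_num⟩, h2, by norm_num⟩
  · exact fact_one (NotCT.Orders.j3 h) (p := 19) (by norm_num) (by norm_num) (by decide)
  · exact fact_one (NotCT.Orders.j4 h) (p := 43) (by norm_num) (by norm_num) (by decide)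
  · exact fact_one (NotCT.Orders.co1 h) (p := 23) (by norm_num) (by norm_num) (by decide)
  · exact fact_one (NotCT.Orders.co2 h) (p := 23) (by norm_num) (by norm_num) (by decide)
  · exact fact_one (NotCT.Orders.co3 h) (p := 23) (by norm_num) (by norm_num) (by decide)
  · -- McL
    have hc := NotCT.Orders.mcl h
    refine ⟨([7, 11], [22, 252]), by decide, by simp, ?_, ?_⟩
    · simp only [List.forall_mem_cons, List.not_mem_nil, false_implies, implies_true, and_true, hc]
      norm_num
    · simp only [List.forall_mem_cons, List.not_mem_nil, false_implies, implies_true, and_true]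
      exact ⟨⟨mem_irr (H765.DS.HSMcL.mcl_22 h), by norm_num⟩, mem_irr (H765.DS.HSMcL.mcl_252 h), by norm_num⟩
  · -- HS
    have hc := NotCT.Orders.hs h
    refine ⟨([7, 11], [22, 77]), by decide, by simp, ?_, ?_⟩
    · simp only [List.forall_mem_cons, List.not_mem_nil, false_implies, implies_true, and_true, hc]
      norm_num
    · simp only [List.forall_mem_cons, List.not_mem_nil, false_implies, implies_true, and_true]
      exact ⟨⟨mem_irr (H765.DS.HSMcL.hs_22 h), by norm_num⟩, mem_irr (H765.DS.HSMcL.hs_77 h), by norm_num⟩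
  · -- Suz
    obtain ⟨h2, h1⟩ := H672.SporIM.suz h
    have hc := NotCT.Orders.suz h
    refine ⟨([7, 11, 13], [780, 1001]), by decide, by simp, ?_, ?_⟩
    · simp only [List.forall_mem_cons, List.not_mem_nil, false_implies, implies_true, and_true, hc]
      norm_num
    · simp only [List.forall_mem_cons, List.not_mem_nil, false_implies, implies_true, and_true]
      exact ⟨⟨h1, by norm_num⟩, h2, by norm_num⟩
  · exact fact_one (NotCT.Orders.he h) (p := 17) (by norm_num) (by norm_num) (by decide)
  · exact fact_one (NotCT.Orders.ru h) (p := 29) (by norm_num) (by norm_num) (by decide)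
  · exact fact_one (NotCT.Orders.on h) (p := 31) (by norm_num) (by norm_num) (by decide)
  · exact fact_one (NotCT.Orders.ly h) (p := 67) (by norm_num) (by norm_num) (by decide)
  · -- Fi22
    obtain ⟨h1, h2⟩ := H3.DS.Fi22.exists_deg h
    have hc := NotCT.Orders.fi22 h
    refine ⟨([7, 11, 13], [429, 3080]), by decide, by simp, ?_, ?_⟩
    · simp only [List.forall_mem_cons, List.not_mem_nil, false_implies, implies_true, and_true, hc]
      norm_num
    · simp only [List.forall_mem_cons, List.not_mem_nil, false_implies, implies_true, and_true]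
      exact ⟨⟨mem_irr h1, by norm_num⟩, mem_irr h2, by norm_num⟩
  · exact fact_one (NotCT.Orders.fi23 h) (p := 23) (by norm_num) (by norm_num) (by decide)
  · exact fact_one (NotCT.Orders.fi24 h) (p := 29) (by norm_num) (by norm_num) (by decide)
  · exact fact_one (NotCT.Orders.hn h) (p := 19) (by norm_num) (by norm_num) (by decide)
  · exact fact_one (NotCT.Orders.th h) (p := 31) (by norm_num) (by norm_num) (by decide)
  · exact fact_one (NotCT.Orders.b h) (p := 47) (by norm_num) (by norm_num) (by decide)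
  · exact fact_one (NotCT.Orders.m h) (p := 71) (by norm_num) (by norm_num) (by decide)

theorem tits_fact {S : Type u} [Group S] [Finite S] (h : Lie.IsoTits S) : ∃ x ∈ sporTable, Fact S x.1 x.2 := by
  have hc := NotCT.Orders.tits h
  obtain ⟨e⟩ := h
  obtain ⟨f⟩ := H707.RowTits.equiv
  refine ⟨([13], [78, 650]), by decide, by simp, ?_, ?_⟩
  · simp only [List.forall_mem_cons, List.not_mem_nil, false_implies, implies_true, and_true, hc]
    norm_num
  · simp only [List.forall_mem_cons, List.not_mem_nil, false_implies, implies_true, and_true]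
    exact ⟨⟨mem_equiv (e.trans f) H678.DG.Tits.deg_78, by norm_num⟩, mem_equiv (e.trans f) H678.DG.Tits.deg_650,
      by norm_num⟩

/-- the test for the alternating groups -/
def altTest (N : ℕ) (P : ℕ → Bool) : Bool :=
  decide (¬ 17 ^ 2 ∣ N) && (List.range 17).all fun l => decide (l < 7) ||
    rowTest N P ([5, 7, 11, 13].filter fun p => decide (p ≤ l)) [l - 1, l * (l - 3) / 2]

/-- the whole test -/
def soc2Test (N : ℕ) (P : ℕ → Bool) (fac : List (ℕ × ℕ)) : Bool :=
  facTest N fac && ppTest P fac && altTest N P && sporTable.all fun x => rowTest N P x.1 x.2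

section

variable {D : Set ℕ} {N : ℕ} {P : ℕ → Bool} {k : ℕ} {S : Type u} [Group S] [Finite S]

theorem table_kill (hD : Num D N P) (hk : 2 ≤ k) (H : Hyp D k S) (hout : Nat.card (Out S) ≤ 2)
    (ht : (sporTable.all fun x => rowTest N P x.1 x.2) = true) (h : ∃ x ∈ sporTable, Fact S x.1 x.2) : False := by
  obtain ⟨x, hx, h1, h2, h3⟩ := h
  rw [List.all_eq_true] at ht
  exact row_kill hD hk H hout h2 h1 h3 (ht x hx)

theorem lie_kill [IsSimpleGroup S] (hD : Num D N P) (hk : 2 ≤ k) (H : Hyp D k S) (hna : ¬ IsMulCommutative S)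
    {fac : List (ℕ × ℕ)} (hpr : ∀ x ∈ fac, x.1.Prime) (hf : facTest N fac = true) (ht : ppTest P fac = true)
    {r : ℕ} (hr : r.Prime) (h : IsLieTypeChar r S) : False := by
  have : _root_.Fact r.Prime := ⟨hr⟩
  obtain ⟨θ, h1, h2⟩ := H761.LieExt.lie_ext hna h
  have h3 := H671.FactRows.prime_dvd_of_lie hr h
  have h4 : 0 < (Nat.card S).factorization r := Nat.Prime.factorization_pos_of_dvd hr Nat.card_pos.ne' h3
  have h5 : 3 ≤ r ^ (Nat.card S).factorization r := by
    rcases Nat.lt_or_ge r 3 with h6 | h6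
    · have h7 : r = 2 := by have := hr.two_le; omega
      subst h7
      have h8 := H727.Orth.four_dvd hna
      have h9 : 2 ≤ (Nat.card S).factorization 2 :=
        (Nat.prime_two.pow_dvd_iff_le_factorization Nat.card_pos.ne').1 (by norm_num; exact h8)
      have := Nat.pow_le_pow_right (n := 2) (by norm_num) h9
      omega
    · calc 3 ≤ r := h6
        _ = r ^ 1 := (pow_one r).symm
        _ ≤ _ := Nat.pow_le_pow_right hr.pos h4
  have h6 : charDegree (θ : S → ℂ) ≠ 1 := by rw [h1]; omega
  obtain ⟨k1, k2⟩ := H.ext θ h6 h2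
  rw [h1] at k1 k2
  exact pp_kill hD hpr hf ht hk hr h4 h5 k1 k2

theorem alt_kill [IsSimpleGroup S] (hD : Num D N P) (hk : 2 ≤ k) (H : Hyp D k S) (hna : ¬ IsMulCommutative S)
    {fac : List (ℕ × ℕ)} (hpr : ∀ x ∈ fac, x.1.Prime) (ht : soc2Test N P fac = true) {l : ℕ} (hl : 5 ≤ l)
    (e : S ≃* alternatingGroup (Fin l)) : False := by
  rw [soc2Test, Bool.and_eq_true, Bool.and_eq_true, Bool.and_eq_true] at ht
  obtain ⟨⟨⟨hf, hp⟩, ha⟩, -⟩ := ht
  by_cases h5 : l = 5
  · subst h5
    have : _root_.Fact (Nat.Prime 5) := ⟨by norm_num⟩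
    obtain ⟨f⟩ := Cfsg.Agent.S0253.psl_zmod5
    exact lie_kill hD hk H hna hpr hf hp (r := 5) (by norm_num) (Or.inl ⟨ZMod 5, inferInstance, inferInstance,
      inferInstance, 2, le_rfl, fun _ => by rw [ZMod.card]; norm_num, ⟨e.trans f.symm⟩⟩)
  by_cases h6 : l = 6
  · subst h6
    exact lie_kill hD hk H hna hpr hf hp (r := 3) (by norm_num) (H679.isLie_six ⟨e⟩)
  have h7 : 7 ≤ l := by omega
  have hout : Nat.card (Out S) ≤ 2 := by
    rw [H55.OutGen.card_out_congr e, H489.card_out_alt hl h6]
  have hdv : ∀ p : ℕ, p.Prime → 3 ≤ p → p ≤ l → p ∣ Nat.card S := fun p hp h3 hpl => by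
    rw [Nat.card_congr e.toEquiv]
    exact dvd_card_alt hp h3 h7 hpl
  rw [altTest, Bool.and_eq_true, decide_eq_true_eq] at ha
  have hl17 : l < 17 := by
    by_contra hcon
    exact ha.1 ((pow_dvd_pow 17 hk).trans (pow_dvd hD H (by norm_num) (hdv 17 (by norm_num) (by norm_num) (by omega))))
  obtain ⟨k1, k2, -⟩ := H71.AN.a4_of (fun h _ h' _ h2 => H89.AN.a1_mem h h' h2) h7
  rw [H691.AN.D, ← H424.DegTools.charDegrees_congr e] at k1 k2
  have ha2 := ha.2
  rw [List.all_eq_true] at ha2
  have h8 := ha2 l (List.mem_range.2 hl17)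
  rw [Bool.or_eq_true, decide_eq_true_eq] at h8
  rcases h8 with h8 | h8
  · omega
  refine row_kill hD hk H hout ?_ ?_ ?_ h8
  · intro p hp'
    rw [List.mem_filter, decide_eq_true_eq] at hp'
    obtain ⟨h9, h10⟩ := hp'
    have h11 : p.Prime ∧ 3 ≤ p := by
      have : p = 5 ∨ p = 7 ∨ p = 11 ∨ p = 13 := by simpa using h9
      rcases this with rfl | rfl | rfl | rfl <;> norm_num
    exact ⟨h11.1, hdv p h11.1 h11.2 h10⟩
  · intro hnil
    have : 5 ∈ ([5, 7, 11, 13].filter fun p => decide (p ≤ l)) := by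
      rw [List.mem_filter, decide_eq_true_eq]
      exact ⟨by simp, by omega⟩
    rw [hnil] at this
    exact List.not_mem_nil this
  · intro a ha'
    have : a = l - 1 ∨ a = l * (l - 3) / 2 := by simpa using ha'
    rcases this with rfl | rfl
    · exact ⟨k1, by omega⟩
    · refine ⟨k2, ?_⟩
      obtain ⟨t, rfl⟩ := Nat.exists_eq_add_of_le h7
      rw [show 7 + t - 3 = t + 4 by omega]
      have h8 : 7 * 4 ≤ (7 + t) * (t + 4) := Nat.mul_le_mul (by omega) (by omega)
      omega

/-- no simple group passes the test -/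
theorem kill (hK : H671.FactRows.KnownAll.{u}) [IsSimpleGroup S] (hD : Num D N P) (hk : 2 ≤ k) (H : Hyp D k S)
    (hna : ¬ IsMulCommutative S) {fac : List (ℕ × ℕ)} (hpr : ∀ x ∈ fac, x.1.Prime) (ht : soc2Test N P fac = true) :
    False := by
  have ht' := ht
  rw [soc2Test, Bool.and_eq_true, Bool.and_eq_true, Bool.and_eq_true] at ht'
  obtain ⟨⟨⟨hf, hp⟩, -⟩, hs⟩ := ht'
  rcases H671.FactRows.split hK S hna with ⟨l, hl, ⟨e⟩⟩ | ⟨r, hr, h⟩ | h | h
  · exact alt_kill hD hk H hna hpr ht hl e
  · exact lie_kill hD hk H hna hpr hf hp hr h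
  · exact table_kill hD hk H (H489.card_out_tits h) hs (tits_fact h)
  · exact table_kill hD hk H (H489.card_out_sporadic h) hs (spor_fact h)

end

end Cfsg.Agent.H450.S8
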